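import Cfsg.Agent.Lib.Fusion.PSLTwo

/-!
# The Sylow `2`-subgroups of `PSL(2, q)` with `16 ∣ q ^ 2 - 1` are dihedral
-/

set_option autoImplicit false

namespace CfsgLib.Fusion

open Cfsg Cfsg.FusionSystem

open scoped MatrixGroups in
theorem psl_two_sylow_dihedral_order_ge_eight {F : Type*} [Field F] [Fintype F] (hodd : Fintype.card F % 2 = 1)
    (h16 : 16 ∣ Fintype.card F ^ 2 - 1)
    (S : Sylow 2 (Matrix.ProjectiveSpecialLinearGroup (Fin 2) F)) :
    ∃ k : ℕ, 2 ≤ k ∧ Nonempty ((S : Subgroup (Matrix.ProjectiveSpecialLinearGroup (Fin 2) F)) ≃*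
      DihedralGroup (2 ^ k)) := by
  classical
  obtain ⟨p, hp⟩ := CharP.exists F
  obtain ⟨d, hpp, hd⟩ := FiniteField.card F p
  have : Fact p.Prime := ⟨hpp⟩
  have hp2 : p ≠ 2 := by
    rintro rfl
    have : 2 ∣ Fintype.card F := hd ▸ dvd_pow_self 2 d.ne_zero
    omega
  have h2 := CfsgLib.Classical.Two.two_ne_zero_of_char (F := F) hp2
  obtain ⟨S'⟩ := (inferInstance : Nonempty (Sylow 2 SL(2, F)))
  obtain ⟨k, hk1, ⟨e⟩⟩ := CfsgLib.Classical.Two.sylow_two_quaternion hp2 (MonoidHom.id SL(2, F))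
    Function.injective_id (CfsgLib.PLocal.SLTwo.ofZMod (K := F) p)
    (CfsgLib.PLocal.SLTwo.ofZMod_injective (K := F)) S'
  -- the order of the quaternion group
  have hcard : Nat.card (S' : Subgroup SL(2, F)) = 4 * 2 ^ k := by
    rw [Nat.card_congr e.toEquiv, Nat.card_eq_fintype_card, QuaternionGroup.card]
  have hk : 2 ≤ k := by
    have hdvd : 2 ^ 4 ∣ Nat.card SL(2, F) := by
      rw [CfsgLib.Classical.Two.card_SL_two]
      exact (show 2 ^ 4 ∣ Fintype.card F ^ 2 - 1 by norm_num; exact h16).trans (dvd_mul_left _ _)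
    have := Sylow.pow_dvd_card_of_pow_dvd_card (n := 4) S' hdvd
    rw [hcard, show (4 : ℕ) = 2 ^ 2 from rfl, ← pow_add] at this
    have := (Nat.pow_dvd_pow_iff_le_right (x := 2) (by norm_num)).1 this
    omega
  -- the map from the quaternion group to PSL
  let π : SL(2, F) →* Matrix.ProjectiveSpecialLinearGroup (Fin 2) F := QuotientGroup.mk' _
  have hπ : Function.Surjective π := QuotientGroup.mk'_surjective _
  let f₀ : QuaternionGroup (2 ^ k) →* Matrix.ProjectiveSpecialLinearGroup (Fin 2) F :=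
    π.comp ((S' : Subgroup SL(2, F)).subtype.comp e.symm.toMonoidHom)
  have hneg : (-1 : SL(2, F)) ∈ Subgroup.center SL(2, F) := Subgroup.mem_center_iff.2 fun g => by
    rw [mul_neg, neg_mul, mul_one, one_mul]
  have hinj : Function.Injective ((S' : Subgroup SL(2, F)).subtype.comp e.symm.toMonoidHom) :=
    (S' : Subgroup SL(2, F)).subtype_injective.comp e.symm.injective
  have hord : ∀ x : QuaternionGroup (2 ^ k),
      orderOf ((e.symm x : (S' : Subgroup SL(2, F))) : SL(2, F)) = orderOf x := fun x => by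
    rw [Subgroup.orderOf_coe, e.symm.orderOf_eq]
  have horda : orderOf (QuaternionGroup.a ((2 ^ k : ℕ) : ZMod (2 * 2 ^ k)) : QuaternionGroup (2 ^ k)) = 2 := by
    refine orderOf_eq_prime ?_ ?_
    · rw [pow_two, QuaternionGroup.a_mul_a, ← Nat.cast_add, ← two_mul, ZMod.natCast_self]; rfl
    · rw [Ne, QuaternionGroup.one_def, QuaternionGroup.a.injEq, ZMod.natCast_eq_zero_iff]
      intro hdvd
      have := Nat.le_of_dvd (by positivity) hdvd
      have : 0 < 2 ^ k := by positivity
      omega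
  have hker : ∀ x, f₀ x = 1 ↔ quatToDihedral (2 ^ k) x = 1 := by
    intro x
    rw [quatToDihedral_eq_one_iff]
    constructor
    · intro hx
      have hc : ((e.symm x : (S' : Subgroup SL(2, F))) : SL(2, F)) ∈ Subgroup.center SL(2, F) :=
        (QuotientGroup.eq_one_iff _).1 hx
      obtain ⟨c, hc2, hc'⟩ := Matrix.SpecialLinearGroup.mem_center_iff.1 hc
      rw [Fintype.card_fin] at hc2
      have hc'' : c = 1 ∨ c = -1 := sq_eq_one_iff.1 hc2
      rcases hc'' with rfl | rfl
      · left
        refine hinj ?_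
        rw [map_one]
        exact Subtype.ext (by rw [Matrix.SpecialLinearGroup.coe_one, ← map_one (Matrix.scalar (Fin 2))]; exact hc'.symm)
      · right
        refine eq_of_orderOf_two ?_
        rw [← hord, show ((e.symm x : (S' : Subgroup SL(2, F))) : SL(2, F)) = -1 from
          Subtype.ext (by rw [← hc', map_neg, map_one]; simp)]
        refine orderOf_eq_prime (by simp) (CfsgLib.Classical.Two.neg_one_ne_one_SL h2)
    · rintro (rfl | rfl)
      · exact map_one _
      · refine (QuotientGroup.eq_one_iff _).2 ?_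
        have h1 := CfsgLib.Classical.Two.eq_neg_one_of_orderOf_two h2 ((hord _).trans horda)
        show ((e.symm _ : (S' : Subgroup SL(2, F))) : SL(2, F)) ∈ Subgroup.center SL(2, F)
        rw [h1]
        exact hneg
  let f : DihedralGroup (2 ^ k) →* Matrix.ProjectiveSpecialLinearGroup (Fin 2) F :=
    (quatToDihedral (2 ^ k)).liftOfSurjective (quatToDihedral_surjective _)
      ⟨f₀, fun x hx => (hker x).2 hx⟩
  have hfθ : ∀ x, f (quatToDihedral (2 ^ k) x) = f₀ x := fun x =>
    MonoidHom.liftOfRightInverse_comp_apply _ _ _ _ x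
  have hf : Function.Injective f := (injective_iff_map_eq_one f).2 fun y hy => by
    obtain ⟨x, rfl⟩ := quatToDihedral_surjective _ y
    exact (hker x).1 (by rw [← hfθ, hy])
  let S₀ := S'.mapSurjective hπ
  have hrange : f.range = (S₀ : Subgroup (Matrix.ProjectiveSpecialLinearGroup (Fin 2) F)) := by
    rw [Sylow.coe_mapSurjective]
    ext y
    constructor
    · rintro ⟨t, rfl⟩
      obtain ⟨x, rfl⟩ := quatToDihedral_surjective _ t
      exact ⟨_, (e.symm x).2, (hfθ x).symm⟩
    · rintro ⟨s, hs, rfl⟩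
      refine ⟨quatToDihedral _ (e ⟨s, hs⟩), ?_⟩
      rw [hfθ]
      exact congrArg π (congrArg Subtype.val (e.symm_apply_apply ⟨s, hs⟩))
  obtain ⟨g, rfl⟩ := MulAction.exists_smul_eq (Matrix.ProjectiveSpecialLinearGroup (Fin 2) F) S₀ S
  exact ⟨k, hk, ⟨(S₀.equiv _).symm.trans ((MulEquiv.subgroupCongr hrange).symm.trans
    (MonoidHom.ofInjective hf).symm)⟩⟩

end CfsgLib.Fusion
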